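import Mathlib

/-!
# Quasi-finite algebras of finite presentation as open pieces of finite ones
-/

set_option autoImplicit false
set_option linter.style.haveILetI false
universe u

open PrimeSpectrum

namespace Groth.Agent.QFUniv4

variable {A B : Type u} [CommRing A] [CommRing B] [Algebra A B]

/-- Finitely many integral elements are values of a finite free algebra. -/
theorem exists_free_finite (s : Finset B) (hs : ∀ x ∈ s, IsIntegral A x) :
    ∃ (C : Type u) (_ : CommRing C) (_ : Algebra A C) (_ : Module.Free A C) (_ : Module.Finite A C) (ψ : C →ₐ[A] B),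
      (s : Set B) ⊆ Set.range ψ := by
  classical
  induction s using Finset.induction with
  | empty => exact ⟨A, inferInstance, inferInstance, inferInstance, inferInstance, Algebra.ofId A B, by simp⟩
  | insert x s _ ih =>
    obtain ⟨C, _, _, _, _, ψ, hψ⟩ := ih fun y hy => hs y (Finset.mem_insert_of_mem hy)
    obtain ⟨P, hP, hPx⟩ := hs x (Finset.mem_insert_self x s)
    let Q := P.map (algebraMap A C)
    have hQ : Q.Monic := hP.map _
    haveI := hQ.free_adjoinRoot
    haveI := hQ.finite_adjoinRoot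
    haveI : Module.Free A (AdjoinRoot Q) := Module.Free.trans (R := A) (S := C)
    haveI : Module.Finite A (AdjoinRoot Q) := Module.Finite.trans C _
    refine ⟨AdjoinRoot Q, inferInstance, inferInstance, inferInstance, inferInstance,
      AdjoinRoot.liftAlgHom Q ψ x ?_, ?_⟩
    · rw [Polynomial.eval₂_map]
      exact (congrArg (fun φ => Polynomial.eval₂ φ x P) ψ.comp_algebraMap).trans hPx
    · intro y hy
      rcases Finset.mem_insert.1 hy with rfl | hy
      · exact ⟨AdjoinRoot.root Q, AdjoinRoot.liftAlgHom_root ..⟩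
      · obtain ⟨c, rfl⟩ := hψ hy
        exact ⟨AdjoinRoot.of Q c, AdjoinRoot.liftAlgHom_of ..⟩

/-- Zariski's main theorem with a finitely presented target: a finite free algebra `C`, finitely many
relations `g` and elements `h` such that `C ⧸ g → B` is bijective after inverting each `h`, the `ψ h` being
the unit ideal. -/
theorem exists_chart [Algebra.FinitePresentation A B] [Algebra.QuasiFinite A B] :
    ∃ (C : Type u) (_ : CommRing C) (_ : Algebra A C) (_ : Module.Free A C) (_ : Module.Finite A C) (ψ : C →ₐ[A] B)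
      (G H : Finset C), (∀ x ∈ G, ψ x = 0) ∧ Ideal.span (ψ '' (H : Set C)) = ⊤ ∧
      ∀ h ∈ H, (∀ b : B, ∃ (n : ℕ) (c : C), ψ c = ψ h ^ n * b) ∧
        ∀ c : C, ψ c = 0 → ∃ n : ℕ, h ^ n * c ∈ Ideal.span (G : Set C) := by
  classical
  have hloc : ∀ p : PrimeSpectrum B, ∃ S : Subalgebra A B, S.toSubmodule.FG ∧ ∃ r : S,
      r.1 ∉ p.asIdeal ∧ Function.Bijective (Localization.awayMap S.val.toRingHom r) := fun p =>
    Algebra.QuasiFiniteAt.exists_fg_and_exists_notMem_and_awayMap_bijective _
  choose S hS r hr hbij using hloc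
  obtain ⟨t, ht⟩ := isCompact_univ.elim_finite_subcover (fun p : PrimeSpectrum B => (basicOpen (r p).1 : Set (PrimeSpectrum B)))
    (fun p => (basicOpen (r p).1).2) (fun p _ => Set.mem_iUnion.2 ⟨p, hr p⟩)
  choose gen hgen using hS
  let s : Finset B := t.biUnion gen ∪ t.image fun p => (r p).1
  have hint : ∀ x ∈ s, IsIntegral A x := by
    intro x hx
    have hmem : ∃ p, x ∈ S p := by
      rcases Finset.mem_union.1 hx with h | h
      · obtain ⟨p, -, hp⟩ := Finset.mem_biUnion.1 h
        exact ⟨p, (hgen p).le (Submodule.subset_span hp)⟩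
      · obtain ⟨p, -, rfl⟩ := Finset.mem_image.1 h
        exact ⟨p, (r p).2⟩
    obtain ⟨p, hp⟩ := hmem
    haveI : Module.Finite A (S p) := ⟨(Submodule.fg_top _).mpr ⟨gen p, hgen p⟩⟩
    exact (isIntegral_algHom_iff (S p).val Subtype.val_injective).2 (Algebra.IsIntegral.isIntegral (⟨x, hp⟩ : S p))
  obtain ⟨C, _, _, _, _, ψ, hψ⟩ := exists_free_finite s hint
  have hrange : ∀ p ∈ t, S p ≤ ψ.range := fun p hp x hx => by
    have hsub : Submodule.span A (gen p : Set B) ≤ Subalgebra.toSubmodule ψ.range :=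
      Submodule.span_le.2 fun y hy => hψ (Finset.mem_union_left _ (Finset.mem_biUnion.2 ⟨p, hp, hy⟩))
    exact hsub ((hgen p).ge hx)
  choose h hh using fun p : t => hψ (Finset.mem_union_right (t.biUnion gen) (Finset.mem_image_of_mem (fun p => (r p).1) p.2))
  have hsurj : ∀ (p : t) (b : B), ∃ (n : ℕ) (c : C), ψ c = ψ (h p) ^ n * b := by
    intro p b
    obtain ⟨z, hz⟩ := (hbij p.1).2 (algebraMap B _ b)
    obtain ⟨⟨a, ⟨_, n, rfl⟩⟩, ha⟩ := IsLocalization.surj (Submonoid.powers (r p.1)) z
    have ha' := congrArg (Localization.awayMap (S p.1).val.toRingHom (r p.1)) ha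
    rw [map_mul, hz, Localization.awayMap, IsLocalization.Away.map, IsLocalization.map_eq, IsLocalization.map_eq,
      ← map_mul] at ha'
    obtain ⟨⟨_, m, rfl⟩, hm⟩ := (IsLocalization.eq_iff_exists (Submonoid.powers ((S p.1).val.toRingHom (r p.1))) _).1 ha'
    obtain ⟨c, hc⟩ := hrange p.1 p.2 ((S p.1).mul_mem ((S p.1).pow_mem (r p.1).2 m) a.2)
    refine ⟨m + n, c, hc.trans ?_⟩
    rw [hh p, pow_add]
    simp only [map_pow] at hm
    refine Eq.trans ?_ (hm.symm.trans (by
      show (r p.1).1 ^ m * (b * (r p.1).1 ^ n) = _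
      ring))
    rfl
  -- relations
  have hker : ∀ p : t, ∃ G : Finset C, (∀ x ∈ G, ψ x = 0) ∧ ∀ c, ψ c = 0 → ∃ n : ℕ, h p ^ n * c ∈ Ideal.span (G : Set C) := by
    intro p
    let L := Localization.Away (h p)
    let M := Localization.Away (ψ (h p))
    haveI : Module.FinitePresentation A C := Module.finitePresentation_of_projective A C
    haveI : Algebra.FinitePresentation A C := Algebra.FinitePresentation.of_finitePresentation A C
    haveI : Algebra.FinitePresentation A L :=
      Algebra.FinitePresentation.trans A C L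
    haveI : Algebra.FinitePresentation A M :=
      Algebra.FinitePresentation.trans A B M
    let φ : L →ₐ[A] M := Localization.awayMapₐ ψ (h p)
    have hφ : Function.Surjective φ := by
      intro z
      obtain ⟨⟨b, ⟨_, n, rfl⟩⟩, hb⟩ := IsLocalization.surj (Submonoid.powers (ψ (h p))) z
      obtain ⟨m, c, hc⟩ := hsurj p b
      refine ⟨IsLocalization.mk' L c (⟨h p ^ (m + n), m + n, rfl⟩ : Submonoid.powers (h p)), ?_⟩
      show IsLocalization.Away.map L M ψ.toRingHom (h p) _ = z
      rw [IsLocalization.Away.map, IsLocalization.map_mk', IsLocalization.mk'_eq_iff_eq_mul]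
      show algebraMap B M (ψ c) = z * algebraMap B M (ψ (h p ^ (m + n)))
      rw [map_pow, pow_add, map_mul, ← mul_assoc, mul_comm z, mul_assoc, hb, hc, map_mul]
    obtain ⟨K, hK⟩ := Algebra.FinitePresentation.ker_fG_of_surjective φ hφ
    have hnum : ∀ z ∈ K, ∃ c : C, ψ c = 0 ∧ ∃ v : L, z = v * algebraMap C L c := by
      intro z hz
      obtain ⟨c, ⟨_, n, rfl⟩, rfl⟩ := IsLocalization.exists_mk'_eq (Submonoid.powers (h p)) z
      have h0 : φ (IsLocalization.mk' L c _) = 0 := RingHom.mem_ker.1 (hK.le (Ideal.subset_span hz))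
      change IsLocalization.Away.map L M ψ.toRingHom (h p) _ = 0 at h0
      rw [IsLocalization.Away.map, IsLocalization.map_mk', IsLocalization.mk'_eq_zero_iff] at h0
      obtain ⟨⟨_, m, rfl⟩, hm⟩ := h0
      refine ⟨h p ^ m * c, by rw [map_mul, map_pow]; exact hm, IsLocalization.mk' L 1 (⟨h p ^ (m + n), m + n, rfl⟩ : Submonoid.powers (h p)), ?_⟩
      rw [mul_comm, IsLocalization.mul_mk'_eq_mk'_of_mul, mul_one]
      refine IsLocalization.mk'_eq_of_eq ?_
      show h p ^ n * (h p ^ m * c) = h p ^ (m + n) * c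
      ring
    choose num hnum v hv using hnum
    refine ⟨K.attach.image fun z => num z.1 z.2, fun x hx => ?_, fun c hc => ?_⟩
    · obtain ⟨z, -, rfl⟩ := Finset.mem_image.1 hx
      exact hnum _ _
    · have hmem : algebraMap C L c ∈ (Ideal.span (K.attach.image fun z => num z.1 z.2 : Set C)).map (algebraMap C L) := by
        have h1 : algebraMap C L c ∈ Ideal.span (K : Set L) := hK.ge (by
          show φ (algebraMap C L c) = 0
          show IsLocalization.Away.map L M ψ.toRingHom (h p) _ = 0
          rw [IsLocalization.Away.map, IsLocalization.map_eq]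
          show algebraMap B M (ψ c) = 0
          rw [hc, map_zero])
        refine Ideal.span_le.2 (fun z hz => ?_) h1
        rw [SetLike.mem_coe, hv z hz]
        exact Ideal.mul_mem_left _ _ (Ideal.mem_map_of_mem _ (Ideal.subset_span
          (Finset.mem_coe.2 (Finset.mem_image.2 ⟨⟨z, hz⟩, Finset.mem_attach _ _, rfl⟩))))
      obtain ⟨_, ⟨m, rfl⟩, hm⟩ := (IsLocalization.algebraMap_mem_map_algebraMap_iff (Submonoid.powers (h p)) L _ c).1 hmem
      exact ⟨m, hm⟩
  choose G hG0 hG using hker
  refine ⟨C, inferInstance, inferInstance, inferInstance, inferInstance, ψ, Finset.univ.biUnion G, Finset.univ.image h,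
    fun x hx => ?_, ?_, fun x hx => ?_⟩
  · obtain ⟨p, -, hp⟩ := Finset.mem_biUnion.1 hx
    exact hG0 p x hp
  · rw [← PrimeSpectrum.zeroLocus_empty_iff_eq_top, PrimeSpectrum.zeroLocus_span, Set.eq_empty_iff_forall_notMem]
    intro q hq
    obtain ⟨p, hp, hqp⟩ := Set.mem_iUnion₂.1 (ht (Set.mem_univ q))
    refine hqp (hq ?_)
    exact ⟨h ⟨p, hp⟩, Finset.mem_coe.2 (Finset.mem_image_of_mem h (Finset.mem_univ _)), hh ⟨p, hp⟩⟩
  · obtain ⟨p, -, rfl⟩ := Finset.mem_image.1 hx
    refine ⟨hsurj p, fun c hc => ?_⟩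
    obtain ⟨n, hn⟩ := hG p c hc
    exact ⟨n, Ideal.span_mono (Finset.coe_subset.2 (Finset.subset_biUnion_of_mem G (Finset.mem_univ p))) hn⟩

end Groth.Agent.QFUniv4
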