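import Groth.Agent.Lib.QFUniv4.Ring
import Groth.Agent.Lib.Pinch4.BaseChange
import Mathlib

/-!
# Universal finite open subschemes of a quasi-finite affine scheme
-/

set_option autoImplicit false
set_option linter.style.haveILetI false
universe u

set_option backward.isDefEq.respectTransparency.types false

open AlgebraicGeometry CategoryTheory CategoryTheory.Limits TopologicalSpace TensorProduct

namespace Groth.Agent.QFUniv4

theorem bijective_respectsIso : RingHom.RespectsIso fun {R S} _ _ (f : R →+* S) => Function.Bijective f :=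
  ⟨fun f e hf => e.bijective.comp hf, fun f e hf => hf.comp e.bijective⟩

/-- A morphism of affine schemes which is an isomorphism over basic opens covering its source is an open immersion. -/
theorem isOpenImmersion_of_away {X Z : Scheme.{u}} [IsAffine X] [IsAffine Z] (j : X ⟶ Z) (H : Set Γ(Z, ⊤))
    (hH : Ideal.span (j.appTop '' H) = ⊤)
    (hs : ∀ h ∈ H, ∀ x : Γ(X, ⊤), ∃ (n : ℕ) (c : Γ(Z, ⊤)), j.appTop c = j.appTop h ^ n * x)
    (hi : ∀ h ∈ H, ∀ c : Γ(Z, ⊤), j.appTop c = 0 → ∃ n : ℕ, h ^ n * c = 0) :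
    IsOpenImmersion j ∧ Set.range j = ⋃ h ∈ H, (Z.basicOpen h : Set Z) := by
  have key : ∀ h : H, IsIso (j ∣_ Z.basicOpen h.1) := by
    rintro ⟨h, hh⟩
    let V := Z.basicOpen h
    haveI : IsAffine V.toScheme := (isAffineOpen_top Z).basicOpen h
    have hpre : j ⁻¹ᵁ V = X.basicOpen (j.appTop h) := Scheme.preimage_basicOpen j h
    haveI : IsAffine (j ⁻¹ᵁ V).toScheme := hpre ▸ (isAffineOpen_top X).basicOpen _
    letI := (Z.presheaf.map (homOfLE (le_top : V ≤ ⊤)).op).hom.toAlgebra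
    letI := (X.presheaf.map (homOfLE (le_top : j ⁻¹ᵁ V ≤ ⊤)).op).hom.toAlgebra
    haveI : IsLocalization.Away h Γ(Z, V) := (isAffineOpen_top Z).isLocalization_basicOpen h
    haveI : IsLocalization.Away (j.appTop h) Γ(X, j ⁻¹ᵁ V) :=
      (isAffineOpen_top X).isLocalization_of_eq_basicOpen _ (homOfLE le_top) hpre
    have nat : ∀ c, j.app V (algebraMap Γ(Z, ⊤) Γ(Z, V) c) = algebraMap Γ(X, ⊤) Γ(X, j ⁻¹ᵁ V) (j.appTop c) := fun c =>
      congr($(j.naturality (homOfLE (le_top : V ≤ ⊤)).op).hom c)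
    have hbij : Function.Bijective (j.app V).hom := by
      refine ⟨(injective_iff_map_eq_zero _).2 fun z hz => ?_, fun w => ?_⟩
      · obtain ⟨c, ⟨_, n, rfl⟩, rfl⟩ := IsLocalization.exists_mk'_eq (Submonoid.powers h) z
        have hu : IsUnit (algebraMap Γ(Z, ⊤) Γ(Z, V) (h ^ n)) :=
          IsLocalization.map_units (M := Submonoid.powers h) Γ(Z, V) ⟨h ^ n, n, rfl⟩
        have hc : algebraMap Γ(X, ⊤) Γ(X, j ⁻¹ᵁ V) (j.appTop c) = 0 := by
          rw [← nat, ← IsLocalization.mk'_spec (M := Submonoid.powers h) Γ(Z, V) c ⟨h ^ n, n, rfl⟩]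
          exact (map_mul (j.app V).hom _ _).trans (by rw [hz, zero_mul])
        obtain ⟨⟨_, m, rfl⟩, hm⟩ := (IsLocalization.map_eq_zero_iff (Submonoid.powers (j.appTop h)) _ _).1 hc
        obtain ⟨k, hk⟩ := hi h hh (h ^ m * c) (by
          refine Eq.trans ?_ hm
          exact (map_mul j.appTop.hom _ _).trans (congrArg (· * _) (map_pow j.appTop.hom _ _)))
        rw [IsLocalization.mk'_eq_zero_iff]
        exact ⟨⟨h ^ (k + m), k + m, rfl⟩, by
          show h ^ (k + m) * c = 0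
          rw [pow_add, mul_assoc, hk]⟩
      · obtain ⟨x, ⟨_, n, rfl⟩, rfl⟩ := IsLocalization.exists_mk'_eq (Submonoid.powers (j.appTop h)) w
        obtain ⟨m, c, hc⟩ := hs h hh x
        refine ⟨IsLocalization.mk' Γ(Z, V) c (⟨h ^ (m + n), m + n, rfl⟩ : Submonoid.powers h), ?_⟩
        rw [IsLocalization.eq_mk'_iff_mul_eq]
        have hu : IsUnit (algebraMap Γ(X, ⊤) Γ(X, j ⁻¹ᵁ V) (j.appTop h ^ m)) :=
          IsLocalization.map_units (M := Submonoid.powers (j.appTop h)) _ ⟨_, m, rfl⟩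
        refine hu.mul_right_cancel ?_
        rw [mul_assoc, ← map_mul, ← map_mul]
        show _ * algebraMap Γ(X, ⊤) Γ(X, j ⁻¹ᵁ V) (j.appTop h ^ n * j.appTop h ^ m) = _
        rw [← pow_add, add_comm n, ← map_pow, ← nat]
        refine (map_mul (j.app V).hom _ _).symm.trans ?_
        rw [IsLocalization.mk'_spec, show x * j.appTop h ^ m = j.appTop c by rw [hc, mul_comm]]
        exact nat c
    have happ : IsIso (j ∣_ V).appTop := by
      rw [ConcreteCategory.isIso_iff_bijective]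
      exact Pinch4.appTop_restrict j V (fun f => Function.Bijective f) bijective_respectsIso hbij
    exact (HasAffineProperty.iff_of_isAffine (P := MorphismProperty.isomorphisms Scheme)).2 ⟨inferInstance, happ⟩
  let U : Z.Opens := ⨆ h : H, Z.basicOpen h.1
  have hU : (U : Set Z) = ⋃ h ∈ H, (Z.basicOpen h : Set Z) := by
    rw [Opens.coe_iSup]
    exact (Set.biUnion_eq_iUnion H (fun h _ => (Z.basicOpen h : Set Z))).symm
  have htop : j ⁻¹ᵁ U = ⊤ := by
    refine top_le_iff.1 ?_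
    rw [Scheme.Hom.preimage_iSup]
    refine (AlgebraicGeometry.iSup_basicOpen_of_span_eq_top ⊤ _ hH).ge.trans (iSup₂_le ?_)
    rintro _ ⟨h, hh, rfl⟩
    exact le_iSup_of_le (⟨h, hh⟩ : H) (Scheme.preimage_basicOpen j h).ge
  have hiso : IsIso (j ∣_ U) := by
    rw [← MorphismProperty.isomorphisms.iff, IsZariskiLocalAtTarget.iff_of_iSup_eq_top (P := MorphismProperty.isomorphisms Scheme)
      (fun h : H => U.ι ⁻¹ᵁ Z.basicOpen h.1)]
    · intro h
      have hle : Z.basicOpen h.1 ≤ U := le_iSup (fun h : H => Z.basicOpen h.1) h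
      have heq : U.ι ''ᵁ U.ι ⁻¹ᵁ Z.basicOpen h.1 = Z.basicOpen h.1 := by
        rw [Scheme.Hom.image_preimage_eq_opensRange_inf, Scheme.Opens.opensRange_ι, inf_eq_right.2 hle]
      refine (MorphismProperty.arrow_mk_iso_iff (MorphismProperty.isomorphisms Scheme)
        (morphismRestrictRestrict j U _ ≪≫ morphismRestrictEq j heq)).2 ?_
      exact key h
    · rw [← Scheme.Hom.preimage_iSup]
      exact Scheme.Opens.ι_preimage_self U
  have hfac : j = X.topIso.inv ≫ (X.isoOfEq htop).inv ≫ (j ∣_ U) ≫ U.ι := by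
    rw [morphismRestrict_ι, Scheme.isoOfEq_inv_ι_assoc, ← Scheme.topIso_hom, Iso.inv_hom_id_assoc]
  haveI := hiso
  refine ⟨by rw [hfac]; infer_instance, ?_⟩
  rw [← hU, hfac, ← Category.assoc, ← Category.assoc, Scheme.Hom.comp_base, TopCat.coe_comp,
    Set.range_comp, (Scheme.Hom.surjective _).range_eq, Set.image_univ, Scheme.Opens.range_ι]

/-- Morphisms between spectra, on global sections. -/
theorem specMap_isoSpec_appTop {Y : Scheme.{u}} [IsAffine Y] {R : CommRingCat.{u}} (φ : Γ(Y, ⊤) ⟶ R) :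
    (Spec.map φ ≫ Y.isoSpec.inv).appTop = φ ≫ (Scheme.ΓSpecIso R).inv := by
  rw [Scheme.Hom.comp_appTop, ← cancel_mono (Scheme.ΓSpecIso R).hom, Category.assoc, Category.assoc, Iso.inv_hom_id,
    Category.comp_id, Scheme.ΓSpecIso_naturality, ← Category.assoc]
  have h : Y.isoSpec.inv.appTop ≫ (Scheme.ΓSpecIso Γ(Y, ⊤)).hom = 𝟙 _ := by
    rw [← Scheme.toSpecΓ_appTop, ← Scheme.isoSpec_hom, ← Scheme.Hom.comp_appTop, Iso.hom_inv_id, Scheme.Hom.id_appTop]
  erw [h, Category.id_comp]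

theorem isoSpec_specMap_appTop {X : Scheme.{u}} [IsAffine X] {R : CommRingCat.{u}} (φ : R ⟶ Γ(X, ⊤)) :
    (X.isoSpec.hom ≫ Spec.map φ).appTop = (Scheme.ΓSpecIso R).hom ≫ φ := by
  rw [Scheme.Hom.comp_appTop, Scheme.isoSpec_hom, Scheme.toSpecΓ_appTop, Scheme.ΓSpecIso_naturality]

section sections

variable {Y Z : Scheme.{u}} [IsAffine Y] [IsAffine Z] (q : Z ⟶ Y) {C : Type u} [CommRing C] [Algebra Γ(Y, ⊤) C]
  (σ : C →+* Γ(Z, ⊤)) (hσq : ∀ r, σ (algebraMap Γ(Y, ⊤) C r) = q.appTop r) {Y' : Scheme.{u}} [IsAffine Y'] (b : Y' ⟶ Y)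
  [Algebra Γ(Y, ⊤) Γ(Y', ⊤)] (hb : ∀ r, algebraMap Γ(Y, ⊤) Γ(Y', ⊤) r = b.appTop r)

/-- Sections of a base change, as images of a tensor product. -/
noncomputable def secMap : Γ(Y', ⊤) ⊗[Γ(Y, ⊤)] C →+* Γ(pullback q b, ⊤) :=
  letI : Algebra Γ(Y, ⊤) Γ(pullback q b, ⊤) :=
    ((pullback.snd q b).appTop.hom.comp (algebraMap Γ(Y, ⊤) Γ(Y', ⊤))).toAlgebra
  (Algebra.TensorProduct.lift
    (AlgHom.mk (pullback.snd q b).appTop.hom (fun _ => rfl) : Γ(Y', ⊤) →ₐ[Γ(Y, ⊤)] Γ(pullback q b, ⊤))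
    (AlgHom.mk ((pullback.fst q b).appTop.hom.comp σ) fun r => by
      show (pullback.fst q b).appTop (σ (algebraMap Γ(Y, ⊤) C r)) = (pullback.snd q b).appTop (algebraMap Γ(Y, ⊤) Γ(Y', ⊤) r)
      rw [hσq, hb]
      have h := congrArg Scheme.Hom.appTop (pullback.condition (f := q) (g := b))
      rw [Scheme.Hom.comp_appTop, Scheme.Hom.comp_appTop] at h
      exact congr(($h).hom r))
    fun _ _ => Commute.all _ _).toRingHom

theorem secMap_tmul (x : Γ(Y', ⊤)) (c : C) :
    secMap q σ hσq b hb (x ⊗ₜ c) = (pullback.snd q b).appTop x * (pullback.fst q b).appTop (σ c) :=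
  letI : Algebra Γ(Y, ⊤) Γ(pullback q b, ⊤) :=
    ((pullback.snd q b).appTop.hom.comp (algebraMap Γ(Y, ⊤) Γ(Y', ⊤))).toAlgebra
  Algebra.TensorProduct.lift_tmul ..

theorem secMap_spec (hσ : Function.Surjective σ) :
    Function.Surjective (secMap q σ hσq b hb) ∧ RingHom.ker (secMap q σ hσq b hb) ≤
      (RingHom.ker σ).map (Algebra.TensorProduct.includeRight : C →ₐ[Γ(Y, ⊤)] Γ(Y', ⊤) ⊗[Γ(Y, ⊤)] C).toRingHom := by
  letI : Algebra Γ(Y, ⊤) Γ(Z, ⊤) := q.appTop.hom.toAlgebra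
  let σa : C →ₐ[Γ(Y, ⊤)] Γ(Z, ⊤) := AlgHom.mk σ hσq
  have hpo := (isPushout_appTop_of_isPullback (IsPullback.of_hasPullback q b)).flip
  have hal : ∀ r, algebraMap Γ(Y, ⊤) Γ(Y', ⊤) r = b.appTop.hom r := hb
  obtain ⟨e, he, he'⟩ : ∃ e : Γ(Y', ⊤) ⊗[Γ(Y, ⊤)] Γ(Z, ⊤) →+* Γ(pullback q b, ⊤), Function.Bijective e ∧
      ∀ x y, e (x ⊗ₜ y) = (pullback.snd q b).appTop x * (pullback.fst q b).appTop y := by
    have := Pinch4.exists_bij hpo
    have hinst : (b.appTop.hom.toAlgebra : Algebra Γ(Y, ⊤) Γ(Y', ⊤)) = ‹Algebra Γ(Y, ⊤) Γ(Y', ⊤)› :=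
      Algebra.algebra_ext _ _ fun r => (hal r).symm
    subst hinst
    exact this
  let μ := Algebra.TensorProduct.map (AlgHom.id Γ(Y, ⊤) Γ(Y', ⊤)) σa
  have hμ : secMap q σ hσq b hb = e.comp μ.toRingHom := by
    refine RingHom.ext fun t => ?_
    induction t using TensorProduct.induction_on with
    | zero => simp
    | add u v hu hv => rw [map_add, map_add, hu, hv]
    | tmul x c => rw [secMap_tmul]; exact (he' x (σ c)).symm
  rw [hμ]
  refine ⟨he.2.comp ?_, fun t ht => ?_⟩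
  · exact Algebra.TensorProduct.map_surjective (AlgHom.id Γ(Y, ⊤) Γ(Y', ⊤)) σa Function.surjective_id hσ
  · have h0 : μ t = 0 := he.1 ((RingHom.mem_ker.1 ht).trans (map_zero e).symm)
    exact (Algebra.TensorProduct.lTensor_ker σa hσ).le h0

end sections

theorem sec_natural {Y Z : Scheme.{u}} [IsAffine Y] [IsAffine Z] (q : Z ⟶ Y) {C : Type u} [CommRing C] [Algebra Γ(Y, ⊤) C]
    (σ : C →+* Γ(Z, ⊤)) (hσq : ∀ r, σ (algebraMap Γ(Y, ⊤) C r) = q.appTop r) {Y₁ Y₂ : Scheme.{u}}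
    [IsAffine Y₁] [IsAffine Y₂] (a : Y₁ ⟶ Y) (b : Y₂ ⟶ Y)
    [Algebra Γ(Y, ⊤) Γ(Y₁, ⊤)] [Algebra Γ(Y, ⊤) Γ(Y₂, ⊤)] (ha : ∀ r, algebraMap Γ(Y, ⊤) Γ(Y₁, ⊤) r = a.appTop r)
    (hb : ∀ r, algebraMap Γ(Y, ⊤) Γ(Y₂, ⊤) r = b.appTop r) (c : Y₂ ⟶ Y₁) (m : pullback q b ⟶ pullback q a)
    (m1 : m ≫ pullback.fst q a = pullback.fst q b) (m2 : m ≫ pullback.snd q a = pullback.snd q b ≫ c)
    (γ : Γ(Y₁, ⊤) →ₐ[Γ(Y, ⊤)] Γ(Y₂, ⊤)) (hγ : ∀ x, γ x = c.appTop x) (t : Γ(Y₁, ⊤) ⊗[Γ(Y, ⊤)] C) :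
    m.appTop (secMap q σ hσq a ha t) =
      secMap q σ hσq b hb (Algebra.TensorProduct.map γ (AlgHom.id Γ(Y, ⊤) C) t) := by
  induction t using TensorProduct.induction_on with
  | zero => simp
  | add u v hu hv => rw [map_add, map_add, hu, hv, map_add, map_add]
  | tmul x y =>
    rw [Algebra.TensorProduct.map_tmul, secMap_tmul, secMap_tmul, map_mul, hγ]
    refine congrArg₂ (· * ·) ?_ ?_
    · have h := congrArg Scheme.Hom.appTop m2
      rw [Scheme.Hom.comp_appTop, Scheme.Hom.comp_appTop] at h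
      exact congr(($h).hom x)
    · have h := congrArg Scheme.Hom.appTop m1
      rw [Scheme.Hom.comp_appTop] at h
      exact congr(($h).hom (σ y))

/-- A solution set of finitely many equations in a base change of a finite free algebra is representable. -/
theorem exists_universal_solution {A C : Type u} [CommRing A] [CommRing C] [Algebra A C] [Module.Free A C]
    [Module.Finite A C] {ι κ : Type} [Finite ι] [Finite κ]
    (E : ∀ (R : Type u) [CommRing R] [Algebra A R], (ι → R ⊗[A] C) → κ → R ⊗[A] C)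
    (hE : ∀ (R S : Type u) [CommRing R] [Algebra A R] [CommRing S] [Algebra A S] (φ : R →ₐ[A] S) (v : ι → R ⊗[A] C) (k : κ),
      Algebra.TensorProduct.map φ (AlgHom.id A C) (E R v k) =
        E S (fun i => Algebra.TensorProduct.map φ (AlgHom.id A C) (v i)) k) :
    ∃ (Au : Type u) (_ : CommRing Au) (_ : Algebra A Au) (_ : Algebra.FinitePresentation A Au) (u : ι → Au ⊗[A] C),
      (∀ k, E Au u k = 0) ∧ ∀ (S : Type u) [CommRing S] [Algebra A S] (v : ι → S ⊗[A] C), (∀ k, E S v k = 0) →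
        ∃ φ : Au →ₐ[A] S, ∀ i, Algebra.TensorProduct.map φ (AlgHom.id A C) (u i) = v i := by
  classical
  cases nonempty_fintype ι
  let β := Module.Free.chooseBasis A C
  let N := Module.Free.ChooseBasisIndex A C
  let R := MvPolynomial (ι × N) A
  let u₀ : ι → R ⊗[A] C := fun i => ∑ n, (MvPolynomial.X (i, n) : R) ⊗ₜ[A] β n
  let βR := Algebra.TensorProduct.basis R β
  let I : Ideal R := Ideal.span (Set.range fun kn : κ × N => βR.repr (E R u₀ kn.1) kn.2)
  haveI : Algebra.FinitePresentation A (R ⧸ I) :=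
    Algebra.FinitePresentation.quotient (Submodule.fg_span (Set.finite_range _))
  let π : R →ₐ[A] R ⧸ I := Ideal.Quotient.mkₐ A I
  have expand : ∀ k, E R u₀ k = ∑ n, βR.repr (E R u₀ k) n • ((1 : R) ⊗ₜ[A] β n) := fun k => by
    conv_lhs => rw [← βR.sum_repr (E R u₀ k)]
    simp [βR]
  have mapE : ∀ (S : Type u) [CommRing S] [Algebra A S] (φ : R →ₐ[A] S) (k : κ),
      Algebra.TensorProduct.map φ (AlgHom.id A C) (E R u₀ k) = ∑ n, φ (βR.repr (E R u₀ k) n) ⊗ₜ[A] β n := by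
    intro S _ _ φ k
    rw [expand k, map_sum]
    refine Finset.sum_congr rfl fun n _ => ?_
    rw [TensorProduct.smul_tmul', Algebra.TensorProduct.map_tmul, smul_eq_mul, mul_one, ← expand k]
    rfl
  refine ⟨R ⧸ I, inferInstance, inferInstance, inferInstance,
    fun i => Algebra.TensorProduct.map π (AlgHom.id A C) (u₀ i), fun k => ?_, fun S _ _ v hv => ?_⟩
  · rw [← hE, mapE]
    refine Finset.sum_eq_zero fun n _ => ?_
    rw [show π (βR.repr (E R u₀ k) n) = 0 from Ideal.Quotient.eq_zero_iff_mem.2 (Ideal.subset_span ⟨(k, n), rfl⟩),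
      TensorProduct.zero_tmul]
  · let βS := Algebra.TensorProduct.basis S β
    let φ₀ : R →ₐ[A] S := MvPolynomial.aeval fun p => βS.repr (v p.1) p.2
    have hsum : ∀ g : N → S, ∑ n, g n ⊗ₜ[A] β n = ∑ n, g n • βS n := fun g => by
      simp [βS, TensorProduct.smul_tmul']
    have hu : ∀ i, Algebra.TensorProduct.map φ₀ (AlgHom.id A C) (u₀ i) = v i := fun i => by
      have hX : ∀ n, φ₀ (MvPolynomial.X (i, n)) = βS.repr (v i) n := fun n => MvPolynomial.aeval_X _ _
      simp only [u₀, map_sum, Algebra.TensorProduct.map_tmul, hX, AlgHom.coe_id, id_eq]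
      rw [hsum]
      exact βS.sum_repr (v i)
    have hkill : ∀ p ∈ I, φ₀ p = 0 := by
      intro p hp
      have hle : I ≤ RingHom.ker φ₀.toRingHom := by
        rw [Ideal.span_le]
        rintro _ ⟨⟨k, n⟩, rfl⟩
        have h0 : ∑ n, φ₀ (βR.repr (E R u₀ k) n) ⊗ₜ[A] β n = 0 := by
          rw [← mapE, hE, funext hu, hv]
        rw [hsum] at h0
        exact Fintype.linearIndependent_iff.1 βS.linearIndependent _ h0 n
      exact hle hp
    refine ⟨Ideal.Quotient.liftₐ I φ₀ hkill, fun i => ?_⟩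
    rw [← AlgHom.comp_apply, ← Algebra.TensorProduct.map_comp, AlgHom.comp_id,
      show (Ideal.Quotient.liftₐ I φ₀ hkill).comp π = φ₀ from Ideal.Quotient.liftₐ_comp I φ₀ hkill]
    exact hu i

/-- Base change of `j` over `Y`. -/
theorem exists_baseChange_imm {X Y Z Y' : Scheme.{u}} (j : X ⟶ Z) [IsOpenImmersion j] (q : Z ⟶ Y) (f : X ⟶ Y)
    (hjq : j ≫ q = f) (b : Y' ⟶ Y) :
    ∃ jb : pullback f b ⟶ pullback q b, IsOpenImmersion jb ∧ jb ≫ pullback.fst q b = pullback.fst f b ≫ j ∧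
      jb ≫ pullback.snd q b = pullback.snd f b ∧ Set.range jb = pullback.fst q b ⁻¹' Set.range j := by
  let jb : pullback f b ⟶ pullback q b := pullback.lift (pullback.fst f b ≫ j) (pullback.snd f b)
    (by rw [Category.assoc, hjq]; exact pullback.condition)
  have hp := Pinch4.isPullback_map j q b f hjq jb (pullback.lift_fst _ _ _) (pullback.lift_snd _ _ _)
  refine ⟨jb, MorphismProperty.of_isPullback hp inferInstance, pullback.lift_fst _ _ _, pullback.lift_snd _ _ _, ?_⟩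
  refine le_antisymm ?_ fun z hz => ?_
  · rintro _ ⟨x, rfl⟩
    refine ⟨pullback.fst f b x, ?_⟩
    rw [← Scheme.Hom.comp_apply, ← pullback.lift_fst (pullback.fst f b ≫ j) (pullback.snd f b) (by
      rw [Category.assoc, hjq]; exact pullback.condition), Scheme.Hom.comp_apply]
  · obtain ⟨x, hx⟩ := hz
    obtain ⟨w, -, hw⟩ := Scheme.Pullback.exists_preimage_pullback (f := j) (g := pullback.fst q b) x z hx
    exact ⟨hp.isoPullback.inv w, by rw [← Scheme.Hom.comp_apply, hp.isoPullback_inv_snd, hw]⟩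

/-- The universal finite open subscheme. -/
theorem exists_universal_finite_open {X Y : Scheme.{u}} (f : X ⟶ Y) [IsAffine X] [IsAffine Y] [LocallyQuasiFinite f]
    [LocallyOfFinitePresentation f] :
    ∃ (Yu : Scheme.{u}) (a : Yu ⟶ Y) (Uu : (pullback f a).Opens), LocallyOfFinitePresentation a ∧ IsAffineHom a ∧
      IsFinite (Uu.ι ≫ pullback.snd f a) ∧
      ∀ (Y' : Scheme.{u}) (b : Y' ⟶ Y) (U' : (pullback f b).Opens), IsAffine Y' → IsFinite (U'.ι ≫ pullback.snd f b) →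
        ∃ (c : Y' ⟶ Yu) (hc : c ≫ a = b),
          (pullback.map f b f a (𝟙 X) c (𝟙 Y) ((Category.comp_id f).trans (Category.id_comp f).symm)
            ((Category.comp_id b).trans hc.symm)) ⁻¹ᵁ Uu = U' := by
  classical
  let A := Γ(Y, ⊤)
  letI : Algebra A Γ(X, ⊤) := f.appTop.hom.toAlgebra
  haveI : Algebra.FinitePresentation A Γ(X, ⊤) := HasRingHomProperty.appTop @LocallyOfFinitePresentation f inferInstance
  haveI : Algebra.QuasiFinite A Γ(X, ⊤) := HasRingHomProperty.appTop @LocallyQuasiFinite f inferInstance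
  obtain ⟨C, _, _, _, _, ψ, G, H, hG, hH, hloc⟩ := exists_chart (A := A) (B := Γ(X, ⊤))
  let J : Ideal C := Ideal.span (G : Set C)
  let ψJ : C ⧸ J →ₐ[A] Γ(X, ⊤) := Ideal.Quotient.liftₐ J ψ fun x hx =>
    (Ideal.span_le.2 fun g hg => RingHom.mem_ker.2 (hG g hg) : J ≤ RingHom.ker ψ.toRingHom) hx
  let Cb : CommRingCat.{u} := CommRingCat.of (C ⧸ J)
  let Z := Spec Cb
  let q : Z ⟶ Y := Spec.map (CommRingCat.ofHom (algebraMap A (C ⧸ J))) ≫ Y.isoSpec.inv
  let σ : C →+* Γ(Z, ⊤) := (Scheme.ΓSpecIso Cb).inv.hom.comp (Ideal.Quotient.mk J)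
  have hσq : ∀ r, σ (algebraMap A C r) = q.appTop r := fun r => by
    show _ = (Spec.map (CommRingCat.ofHom (algebraMap A (C ⧸ J))) ≫ Y.isoSpec.inv).appTop.hom r
    rw [specMap_isoSpec_appTop]
    rfl
  have hσ : Function.Surjective σ :=
    (ConcreteCategory.bijective_of_isIso (Scheme.ΓSpecIso Cb).inv).2.comp Ideal.Quotient.mk_surjective
  have hkerσ : RingHom.ker σ ≤ J := fun c hc => Ideal.Quotient.eq_zero_iff_mem.1
    ((ConcreteCategory.bijective_of_isIso (Scheme.ΓSpecIso Cb).inv).1 ((RingHom.mem_ker.1 hc).trans (map_zero _).symm))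
  let j : X ⟶ Z := X.isoSpec.hom ≫ Spec.map (CommRingCat.ofHom ψJ.toRingHom)
  have hjσ : ∀ c, j.appTop (σ c) = ψ c := fun c => by
    show (X.isoSpec.hom ≫ Spec.map (CommRingCat.ofHom ψJ.toRingHom)).appTop.hom _ = _
    rw [isoSpec_specMap_appTop]
    show ψJ.toRingHom (((Scheme.ΓSpecIso Cb).inv ≫ (Scheme.ΓSpecIso Cb).hom).hom (Ideal.Quotient.mk J c)) = _
    rw [Iso.inv_hom_id]
    rfl
  have hjq : j ≫ q = f := by
    show (X.isoSpec.hom ≫ Spec.map _) ≫ Spec.map _ ≫ Y.isoSpec.inv = f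
    rw [Category.assoc, ← Category.assoc (Spec.map _), ← Spec.map_comp, ← Category.assoc, Iso.comp_inv_eq,
      ← Scheme.isoSpec_hom_naturality f]
    congr 2
    ext r
    exact ψJ.commutes r
  obtain ⟨hjo, hjr⟩ := isOpenImmersion_of_away j (σ '' (H : Set C)) (by
      rw [Set.image_image]
      simp only [hjσ]
      exact hH) (by
      rintro _ ⟨h, hh, rfl⟩ x
      obtain ⟨n, c, hc⟩ := (hloc h hh).1 x
      exact ⟨n, σ c, by rw [hjσ, hjσ, hc]⟩) (by
      rintro _ ⟨h, hh, rfl⟩ z hz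
      obtain ⟨c, rfl⟩ := hσ z
      rw [hjσ] at hz
      obtain ⟨n, hn⟩ := (hloc h hh).2 c hz
      refine ⟨n, ?_⟩
      rw [← map_pow, ← map_mul]
      show (Scheme.ΓSpecIso Cb).inv.hom (Ideal.Quotient.mk J (h ^ n * c)) = 0
      rw [Ideal.Quotient.eq_zero_iff_mem.2 hn, map_zero])
  haveI := hjo
  haveI : IsFinite q := by
    haveI : IsFinite (Spec.map (CommRingCat.ofHom (algebraMap A (C ⧸ J)))) :=
      (IsFinite.SpecMap_iff _).2 (RingHom.finite_algebraMap.2 inferInstance)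
    infer_instance
  -- the equations
  let E : ∀ (R : Type u) [CommRing R] [Algebra A R], ((Unit ⊕ G) ⊕ (H ⊕ G) → R ⊗[A] C) → Bool → R ⊗[A] C :=
    fun R _ _ v k => if k then v (.inl (.inl ())) * v (.inl (.inl ())) - v (.inl (.inl ())) -
        ∑ g : G, v (.inl (.inr g)) * ((1 : R) ⊗ₜ[A] g.1)
      else v (.inl (.inl ())) - ∑ h : H, v (.inr (.inl h)) * ((1 : R) ⊗ₜ[A] h.1) -
        ∑ g : G, v (.inr (.inr g)) * ((1 : R) ⊗ₜ[A] g.1)
  have hEtrue : ∀ (R : Type u) [CommRing R] [Algebra A R] (v), E R v true =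
      v (.inl (.inl ())) * v (.inl (.inl ())) - v (.inl (.inl ())) -
        ∑ g : G, v (.inl (.inr g)) * ((1 : R) ⊗ₜ[A] g.1) := fun R _ _ v => rfl
  have hEfalse : ∀ (R : Type u) [CommRing R] [Algebra A R] (v), E R v false =
      v (.inl (.inl ())) - ∑ h : H, v (.inr (.inl h)) * ((1 : R) ⊗ₜ[A] h.1) -
        ∑ g : G, v (.inr (.inr g)) * ((1 : R) ⊗ₜ[A] g.1) := fun R _ _ v => rfl
  obtain ⟨Au, _, _, _, u, hu, huniv⟩ := exists_universal_solution (ι := (Unit ⊕ Fin G.card) ⊕ (Fin H.card ⊕ Fin G.card))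
    (fun R _ _ v => E R fun i => v (i.map (Sum.map id G.equivFin) (Sum.map H.equivFin G.equivFin))) (by
    intro R S _ _ _ _ φ v k
    cases k
    · simp only [hEfalse, map_sub, map_sum, map_mul, Algebra.TensorProduct.map_tmul, map_one, AlgHom.coe_id, id_eq]
    · simp only [hEtrue, map_sub, map_sum, map_mul, Algebra.TensorProduct.map_tmul, map_one, AlgHom.coe_id, id_eq])
  let Ac : CommRingCat.{u} := CommRingCat.of Au
  let Yu := Spec Ac
  let a : Yu ⟶ Y := Spec.map (CommRingCat.ofHom (algebraMap A Au)) ≫ Y.isoSpec.inv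
  letI : Algebra A Γ(Yu, ⊤) := a.appTop.hom.toAlgebra
  have hac : ∀ r, (Scheme.ΓSpecIso Ac).inv.hom (algebraMap A Au r) = a.appTop.hom r := fun r => by
    show _ = (Spec.map (CommRingCat.ofHom (algebraMap A Au)) ≫ Y.isoSpec.inv).appTop.hom r
    rw [specMap_isoSpec_appTop]
    rfl
  let ε₀ : Au →ₐ[A] Γ(Yu, ⊤) := AlgHom.mk (Scheme.ΓSpecIso Ac).inv.hom hac
  let sec := secMap q σ hσq a (fun _ => rfl)
  let ue : Γ(Yu, ⊤) ⊗[A] C := Algebra.TensorProduct.map ε₀ (AlgHom.id A C) (u (.inl (.inl ())))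
  let εu := sec ue
  have hsecG : ∀ (Y' : Scheme.{u}) [IsAffine Y'] (b : Y' ⟶ Y) [Algebra A Γ(Y', ⊤)] (hb : ∀ r, algebraMap A Γ(Y', ⊤) r = b.appTop r) (g : G),
      secMap q σ hσq b hb ((1 : Γ(Y', ⊤)) ⊗ₜ g.1) = 0 := fun Y' _ b _ hb g => by
    rw [secMap_tmul, show σ g.1 = 0 from (congrArg (Scheme.ΓSpecIso Cb).inv.hom
      (Ideal.Quotient.eq_zero_iff_mem.2 (Ideal.subset_span g.2))).trans (map_zero _), map_zero, mul_zero]
  have hsum : εu * εu = εu ∧ εu ∈ Ideal.span (Set.range fun h : H => (pullback.fst q a).appTop.hom (σ h.1)) := by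
    have h1 := congrArg (fun t => sec (Algebra.TensorProduct.map ε₀ (AlgHom.id A C) t)) (hu true)
    have h2 := congrArg (fun t => sec (Algebra.TensorProduct.map ε₀ (AlgHom.id A C) t)) (hu false)
    simp only [hEtrue, hEfalse, map_sub, map_sum, map_mul, Algebra.TensorProduct.map_tmul, map_one, AlgHom.coe_id, id_eq,
      Sum.map_inl, Sum.map_inr, map_zero] at h1 h2
    have hG0 : ∀ g : G, sec ((1 : Γ(Yu, ⊤)) ⊗ₜ[A] g.1) = 0 := hsecG Yu a (fun _ => rfl)
    simp only [hG0, mul_zero, Finset.sum_const_zero, sub_zero] at h1 h2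
    refine ⟨sub_eq_zero.1 h1, ?_⟩
    rw [show εu = _ from sub_eq_zero.1 h2]
    refine sum_mem fun h _ => ?_
    rw [secMap_tmul, map_one, one_mul]
    exact Ideal.mul_mem_left _ _ (Ideal.subset_span ⟨h, rfl⟩)
  have hD : ∀ (W : Scheme.{u}) (e : Γ(W, ⊤)), e * e = e → IsClosed (W.basicOpen e : Set W) := by
    intro W e he
    refine ⟨?_⟩
    have : ((W.basicOpen e : Set W))ᶜ = W.basicOpen (1 - e) := by
      ext z
      simp only [Set.mem_compl_iff, SetLike.mem_coe]
      rw [W.mem_basicOpen (U := ⊤) e z trivial, W.mem_basicOpen (U := ⊤) (1 - e) z trivial, map_sub, map_one]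
      let γ := (W.presheaf.germ ⊤ z trivial).hom e
      have hγ : γ * γ = γ := by rw [← map_mul, he]
      constructor
      · intro h
        rcases IsLocalRing.isUnit_or_isUnit_one_sub_self γ with h' | h'
        · exact absurd h' h
        · exact h'
      · intro h h'
        have h0 : γ * (1 - γ) = 0 := by rw [mul_sub, mul_one, hγ, sub_self]
        exact not_isUnit_zero (h0 ▸ IsUnit.mul h' h)
    rw [this]
    exact (W.basicOpen _).2
  have hrange : ∀ (Y' : Scheme.{u}) (b : Y' ⟶ Y), pullback.fst q b ⁻¹' Set.range j =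
      ⋃ h : H, ((pullback q b).basicOpen ((pullback.fst q b).appTop.hom (σ h.1)) : Set (pullback q b : Scheme.{u})) := by
    intro Y' b
    ext z
    rw [hjr, Set.mem_preimage]
    simp only [Set.biUnion_image, Set.mem_iUnion, Finset.mem_coe, SetLike.mem_coe, Subtype.exists]
    refine exists_congr fun h => exists_congr fun _ => ?_
    exact (SetLike.ext_iff.1 (Scheme.preimage_basicOpen (pullback.fst q b) (σ h)) z)
  obtain ⟨ja, hja, ja1, ja2, jar⟩ := exists_baseChange_imm j q f hjq a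
  let D := (pullback q a).basicOpen εu
  have hDle : (D : Set (pullback q a : Scheme.{u})) ⊆ Set.range ja := by
    intro z hz
    rw [jar, hrange]
    by_contra hn
    simp only [Set.mem_iUnion, not_exists] at hn
    have hle : Ideal.span (Set.range fun h : H => (pullback.fst q a).appTop.hom (σ h.1)) ≤
        (IsLocalRing.maximalIdeal _).comap ((pullback q a).presheaf.germ ⊤ z trivial).hom := by
      rw [Ideal.span_le]
      rintro _ ⟨h, rfl⟩
      exact fun hu' => hn h (((pullback q a).mem_basicOpen (U := ⊤) _ z trivial).2 hu')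
    exact hle hsum.2 (((pullback q a).mem_basicOpen (U := ⊤) εu z trivial).1 hz)
  refine ⟨Yu, a, ja ⁻¹ᵁ D, ?_, inferInstance, ?_, ?_⟩
  · haveI : LocallyOfFinitePresentation (Spec.map (CommRingCat.ofHom (algebraMap A Au))) :=
      HasRingHomProperty.Spec_iff.2 (RingHom.finitePresentation_algebraMap.2 inferInstance)
    infer_instance
  · haveI := hja
    haveI : IsIso (ja ∣_ D) := by
      haveI : Surjective (ja ∣_ D) := ⟨fun z => by
        obtain ⟨x, hx⟩ := hDle z.2
        refine ⟨⟨x, by show ja x ∈ D; rw [hx]; exact z.2⟩, D.ι.isOpenEmbedding.injective ?_⟩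
        rw [← Scheme.Hom.comp_apply, morphismRestrict_ι, Scheme.Hom.comp_apply]
        exact hx⟩
      exact IsOpenImmersion.isIso _
    haveI : IsClosedImmersion D.ι := IsClosedImmersion.of_isPreimmersion _ (by
      rw [Scheme.Opens.range_ι]; exact hD _ εu hsum.1)
    rw [← ja2, ← Category.assoc, ← morphismRestrict_ι]
    infer_instance
  · intro Y' b U' hY' hU'
    letI : Algebra A Γ(Y', ⊤) := b.appTop.hom.toAlgebra
    obtain ⟨jb, hjb, jb1, jb2, jbr⟩ := exists_baseChange_imm j q f hjq b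
    haveI : IsFinite (U'.ι ≫ jb) := by
      haveI : IsFinite ((U'.ι ≫ jb) ≫ pullback.snd q b) := by rw [Category.assoc, jb2]; exact hU'
      exact IsFinite.of_comp _ (pullback.snd q b)
    let D' : (pullback q b).Opens := (U'.ι ≫ jb).opensRange
    have hclop : IsClopen (D' : Set (pullback q b : Scheme.{u})) :=
      ⟨(U'.ι ≫ jb).isClosedMap.isClosed_range, D'.2⟩
    let Φ := (pullback q b).toSpecΓ
    obtain ⟨ε, hεi, hε⟩ := PrimeSpectrum.exists_idempotent_basicOpen_eq_of_isClopen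
      (R := Γ(pullback q b, ⊤)) (s := Φ.homeomorph '' (D' : Set _))
      ⟨Φ.homeomorph.isClosedMap _ hclop.1, Φ.homeomorph.isOpenMap _ hclop.2⟩
    have hεD : (pullback q b).basicOpen ε = D' := by
      refine SetLike.coe_injective ?_
      rw [← Scheme.toSpecΓ_preimage_basicOpen]
      show Φ.homeomorph ⁻¹' (PrimeSpectrum.basicOpen ε : Set (PrimeSpectrum Γ(pullback q b, ⊤))) = _
      rw [← hε]
      exact Set.preimage_image_eq _ Φ.homeomorph.injective
    let hgen := fun h : H => (pullback.fst q b).appTop.hom (σ h.1)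
    have hmem : ε ∈ Ideal.span (Set.range hgen) := by
      have hrad : ε ∈ (Ideal.span (Set.range hgen)).radical := by
        rw [← PrimeSpectrum.vanishingIdeal_zeroLocus_eq_radical, PrimeSpectrum.mem_vanishingIdeal]
        intro P hP
        by_contra hn
        have hn' : P ∈ (PrimeSpectrum.basicOpen ε : Set (PrimeSpectrum Γ(pullback q b, ⊤))) := hn
        rw [← hε] at hn'
        obtain ⟨z, ⟨x, hx⟩, rfl⟩ := hn'
        have hz : z ∈ pullback.fst q b ⁻¹' Set.range j := by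
          rw [← jbr]; exact ⟨U'.ι x, by rw [← Scheme.Hom.comp_apply]; exact hx⟩
        rw [hrange] at hz
        obtain ⟨h, hh⟩ := Set.mem_iUnion.1 hz
        rw [SetLike.mem_coe, ← Scheme.toSpecΓ_preimage_basicOpen] at hh
        exact hh (hP (Ideal.subset_span ⟨h, rfl⟩))
      obtain ⟨n, hn⟩ := hrad
      rcases n with _ | n
      · rw [pow_zero] at hn
        rw [Ideal.eq_top_of_isUnit_mem _ hn isUnit_one]
        trivial
      · rwa [hεi.pow_succ_eq] at hn
    obtain ⟨hsecsurj, hseck⟩ := secMap_spec q σ hσq b (fun _ => rfl) hσ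
    let secb := secMap q σ hσq b (fun _ => rfl)
    have hker : ∀ t, secb t = 0 → ∃ c : G → Γ(Y', ⊤) ⊗[A] C, t = ∑ g : G, c g * ((1 : Γ(Y', ⊤)) ⊗ₜ[A] g.1) := by
      intro t ht
      have hle : (RingHom.ker σ).map (Algebra.TensorProduct.includeRight : C →ₐ[A] Γ(Y', ⊤) ⊗[A] C).toRingHom ≤
          Ideal.span (Set.range fun g : G => (1 : Γ(Y', ⊤)) ⊗ₜ[A] g.1) := by
        refine (Ideal.map_mono hkerσ).trans ?_
        rw [Ideal.map_span, Ideal.span_le]
        rintro _ ⟨g, hg, rfl⟩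
        exact Ideal.subset_span ⟨⟨g, hg⟩, rfl⟩
      obtain ⟨c, hc⟩ := Ideal.mem_span_range_iff_exists_fun.1 (hle (hseck (RingHom.mem_ker.2 ht)))
      exact ⟨c, hc.symm⟩
    obtain ⟨e, he⟩ := hsecsurj ε
    obtain ⟨c₁, hc₁⟩ := hker (e * e - e) (by rw [map_sub, map_mul, he, hεi, sub_self])
    obtain ⟨dd, hdd⟩ := Ideal.mem_span_range_iff_exists_fun.1 hmem
    choose d hd using fun h => hsecsurj (dd h)
    obtain ⟨c₂, hc₂⟩ := hker (e - ∑ h : H, d h * ((1 : Γ(Y', ⊤)) ⊗ₜ[A] h.1)) (by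
      rw [map_sub, map_sum, he, sub_eq_zero, ← hdd]
      refine Finset.sum_congr rfl fun h _ => ?_
      rw [map_mul, secMap_tmul, map_one, one_mul, hd])
    let v : (Unit ⊕ Fin G.card) ⊕ (Fin H.card ⊕ Fin G.card) → Γ(Y', ⊤) ⊗[A] C :=
      Sum.elim (Sum.elim (fun _ => e) fun k => c₁ (G.equivFin.symm k))
        (Sum.elim (fun k => d (H.equivFin.symm k)) fun k => c₂ (G.equivFin.symm k))
    obtain ⟨φ, hφ⟩ := huniv Γ(Y', ⊤) v (fun k => by
      cases k
      · simp only [hEfalse, v, Sum.map_inl, Sum.map_inr, Sum.elim_inl, Sum.elim_inr, Equiv.symm_apply_apply, ← hc₂, sub_self]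
      · simp only [hEtrue, v, Sum.map_inl, Sum.map_inr, Sum.elim_inl, Sum.elim_inr, Equiv.symm_apply_apply, id_eq, ← hc₁, sub_self])
    let c : Y' ⟶ Yu := Y'.isoSpec.hom ≫ Spec.map (CommRingCat.ofHom φ.toRingHom)
    have hc : c ≫ a = b := by
      show (Y'.isoSpec.hom ≫ Spec.map _) ≫ Spec.map _ ≫ Y.isoSpec.inv = b
      rw [Category.assoc, ← Category.assoc (Spec.map _), ← Spec.map_comp, ← Category.assoc, Iso.comp_inv_eq,
        ← Scheme.isoSpec_hom_naturality b]
      congr 2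
      ext r
      exact φ.commutes r
    refine ⟨c, hc, ?_⟩
    let m : pullback q b ⟶ pullback q a := pullback.lift (pullback.fst q b) (pullback.snd q b ≫ c)
      (by rw [Category.assoc, hc]; exact pullback.condition)
    let γ : Γ(Yu, ⊤) →ₐ[A] Γ(Y', ⊤) := AlgHom.mk c.appTop.hom fun r => by
      have h := congrArg Scheme.Hom.appTop hc
      rw [Scheme.Hom.comp_appTop] at h
      exact congr(($h).hom r)
    have hm : m.appTop εu = ε := by
      show m.appTop (secMap q σ hσq a _ ue) = ε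
      rw [sec_natural q σ hσq a b (fun _ => rfl) (fun _ => rfl) c m (pullback.lift_fst _ _ _) (pullback.lift_snd _ _ _) γ
        (fun _ => rfl), ← he]
      refine congrArg _ ?_
      show Algebra.TensorProduct.map γ (AlgHom.id A C) (Algebra.TensorProduct.map ε₀ (AlgHom.id A C) _) = e
      rw [← AlgHom.comp_apply, ← Algebra.TensorProduct.map_comp, AlgHom.comp_id,
        show γ.comp ε₀ = φ from AlgHom.ext fun x => by
          show (Y'.isoSpec.hom ≫ Spec.map (CommRingCat.ofHom φ.toRingHom)).appTop.hom _ = _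
          rw [isoSpec_specMap_appTop]
          show φ.toRingHom (((Scheme.ΓSpecIso Ac).inv ≫ (Scheme.ΓSpecIso Ac).hom).hom x) = _
          rw [Iso.inv_hom_id]
          rfl, hφ]
      rfl
    let M : pullback f b ⟶ pullback f a := pullback.map f b f a (𝟙 X) c (𝟙 Y)
      ((Category.comp_id f).trans (Category.id_comp f).symm) ((Category.comp_id b).trans hc.symm)
    have hMm : M ≫ ja = jb ≫ m := by
      refine pullback.hom_ext (f := q) (g := a) ?_ ?_
      · rw [Category.assoc, ja1, Category.assoc, pullback.lift_fst, jb1, ← Category.assoc, pullback.lift_fst,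
          Category.comp_id]
      · rw [Category.assoc, ja2, Category.assoc, pullback.lift_snd, pullback.lift_snd, ← Category.assoc jb, jb2]
    show M ⁻¹ᵁ ja ⁻¹ᵁ D = U'
    rw [← Scheme.Hom.comp_preimage, hMm, Scheme.Hom.comp_preimage]
    have hmD : m ⁻¹ᵁ D = D' := by
      rw [← hεD, ← hm]
      exact Scheme.preimage_basicOpen m εu
    rw [hmD]
    haveI := hjb
    ext x
    constructor
    · rintro ⟨y, hy⟩
      rw [Scheme.Hom.comp_apply] at hy
      rw [SetLike.mem_coe, ← jb.isOpenEmbedding.injective hy]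
      exact y.2
    · exact fun hx => ⟨⟨x, hx⟩, rfl⟩

end Groth.Agent.QFUniv4
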